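import Cfsg.Agent.H956.IF.Central
import Cfsg.Agent.H384.LargeIdxB
import Cfsg.Agent.NotCT.Orders

/-!
# S5719, row `B` (helper956): the class `2B` (`C(z) = 2^(1+22).Co₂`)

In the model `Inst.M.G`, `z = Model.zz` : no `IF A Γ` has `z ∈ A`.
-/

set_option autoImplicit false

namespace Cfsg.Agent.H956.IF.BB

open Subgroup Cfsg Cfsg.Agent.BabyM Cfsg.Agent.BabyM.Model Cfsg.Agent.BabyU.ClosModel
open Cfsg.Agent.BabyU.ClosLane Cfsg.Agent.KFacts Cfsg.Agent.H867.MinIdx Cfsg.Agent.Schreier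
open Cfsg.Agent.H209.Fxy

theorem isoB : Spor.IsoB Inst.M.G := ⟨BM.KHAll.iso.symm⟩

theorem card : Nat.card Inst.M.G = 4154781481226426191177580544000000 := NotCT.Orders.b isoB

theorem card_Q : Nat.card (PP Inst.M) = 8388608 := by
  have h : Nat.card (PP Inst.M) = 2 ^ 23 := by
    rw [← A.grp.Q_card]
    exact Nat.card_congr (Subgroup.subgroupOfEquivOfLe (A.grp.Q_le.trans A.C_le_G)).toEquiv
  rw [h]; norm_num

theorem index_z : (centralizer ({zz A} : Set Inst.M.G)).index = 11707448673375 := by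
  have h1 : Nat.card (centralizer ({zz A} : Set Inst.M.G)) = 2 ^ 23 * 42305421312000 := by
    rw [Nat.card_congr (KFacts.Baby.Inst.eC A).toEquiv, A.grp.card_C]
  have h2 := (centralizer ({zz A} : Set Inst.M.G)).card_mul_index
  rw [h1, card] at h2
  apply Nat.eq_of_mul_eq_mul_left (show 0 < 2 ^ 23 * 42305421312000 by norm_num)
  rw [h2]
  norm_num

theorem noncomm : ∃ a b : Inst.M.G, a * b ≠ b * a := by
  by_contra hcon
  push Not at hcon
  have h1 : centralizer ({zz A} : Set Inst.M.G) = ⊤ := by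
    rw [eq_top_iff]
    intro x _
    exact mem_centralizer_singleton_iff.2 (hcon x _)
  have h2 := index_z
  rw [h1, Subgroup.index_top] at h2
  norm_num at h2

/-- **the class `2B` of the Baby Monster**: no `IF A Γ` has `z ∈ A` -/
theorem kill_z {B : Subgroup Inst.M.G} {Γ : Subgroup (MulAut Inst.M.G)} (h : IF B Γ) (hz : zz A ∈ B) : False := by
  have := A.finite_G
  have := A.simple
  have := A.grp.simple
  obtain ⟨π, hπ, hker⟩ := Baby.Inst.quot A
  obtain ⟨e⟩ := CoTwoStab.exists_equiv _ GroupInst.dt_l₀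
  have hs : IsSimpleGroup Spor.Co2 := e.symm.isSimpleGroup
  obtain ⟨n₀, hn, -, hgen⟩ := Baby.Inst.gen A
  refine Central.kill_central noncomm (Baby.Inst.large A) (Baby.Inst.irr' A) π hπ (fun c hc => (hker c).1 hc)
    ((H867.SporMI.co2 hs).congr e.symm) (b := 410) ?_ (by norm_num) ?_ hn ?_ h hz
  · rw [index_z]; norm_num
  · rw [card_Q]; norm_num
  · rw [← hgen]
    congr 2
    ext c
    exact mem_centralizer_singleton_iff

/-- the same for the conjugates of `z` -/
theorem kill_conj {B : Subgroup Inst.M.G} {Γ : Subgroup (MulAut Inst.M.G)} (h : IF B Γ) {t : Inst.M.G}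
    (ht : IsConj (zz A) t) (hz : t ∈ B) : False := by
  obtain ⟨g, hg⟩ := isConj_iff.1 ht
  refine kill_z (h.map (MulAut.conj g⁻¹)) ⟨t, hz, ?_⟩
  show g⁻¹ * t * g⁻¹⁻¹ = zz A
  rw [← hg]
  group

end Cfsg.Agent.H956.IF.BB
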