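import Cfsg.Agent.H956.IF.LargeC
import Cfsg.Agent.H999.IF.EngB
import Cfsg.Agent.H209.IF.Kill

/-!
# S5719 (helper956): the 2-central involution of a group with a large extraspecial subgroup

`kill_central` : `Q` large extraspecial at `z`, `C(z)` irreducible on `Q/⟨z⟩`, `π : C(z) → L` onto with kernel `Q`,
`MI L m`, `|T : C(z)| ≤ (b + 1)^5`, `b < m`, `2 b < |Q|`, `⟨C(z), n₀⟩ = T` with `n₀ z n₀⁻¹ ∈ Q`: no `IF A Γ` with
`z ∈ A`.
-/

set_option autoImplicit false

namespace Cfsg.Agent.H956.IF.Central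

open Subgroup Cfsg.Agent.Co2Type.Quad Cfsg.Agent.H867.MinIdx Cfsg.Agent.H209.Fxy

theorem map_cent {T : Type*} [Group T] {z t g : T} (h : g * z * g⁻¹ = t) :
    (centralizer ({z} : Set T)).map (MulAut.conj g).toMonoidHom = centralizer ({t} : Set T) := by
  ext x
  rw [mem_centralizer_singleton_iff]
  constructor
  · rintro ⟨y, hy, rfl⟩
    have h1 : y * z = z * y := mem_centralizer_singleton_iff.1 hy
    show g * y * g⁻¹ * t = t * (g * y * g⁻¹)
    rw [← h]
    calc g * y * g⁻¹ * (g * z * g⁻¹) = g * (y * z) * g⁻¹ := by group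
      _ = g * (z * y) * g⁻¹ := by rw [h1]
      _ = _ := by group
  · intro hx
    refine ⟨g⁻¹ * x * g, ?_, ?_⟩
    · have h1 : g⁻¹ * x * g * z = z * (g⁻¹ * x * g) := by
        rw [← h] at hx
        calc g⁻¹ * x * g * z = g⁻¹ * (x * (g * z * g⁻¹)) * g := by group
          _ = g⁻¹ * (g * z * g⁻¹ * x) * g := by rw [hx]
          _ = _ := by group
      exact mem_centralizer_singleton_iff.2 h1
    · show g * (g⁻¹ * x * g) * g⁻¹ = x
      group

/-- a subgroup closed under passing to the centralisers of the conjugates of `z` -/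
theorem eq_top {T : Type*} [Group T] [Finite T] [IsSimpleGroup T] {A : Subgroup T} {z n₀ : T} (hz1 : z ≠ 1)
    (hn : n₀ * z * n₀⁻¹ ∈ centralizer ({z} : Set T)) (hgen : closure ((centralizer ({z} : Set T) : Set T) ∪ {n₀}) = ⊤)
    (hzA : z ∈ A) (hC : ∀ g : T, g * z * g⁻¹ ∈ A → centralizer ({g * z * g⁻¹} : Set T) ≤ A) : A = ⊤ := by
  have hall : ∀ g : T, g * z * g⁻¹ ∈ A := by
    intro g
    have hg : g ∈ closure ((centralizer ({z} : Set T) : Set T) ∪ {n₀}) := by rw [hgen]; exact mem_top g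
    rw [← Subgroup.mem_toSubmonoid, Subgroup.closure_toSubmonoid_of_finite] at hg
    -- right induction
    induction hg using Submonoid.closure_induction_right with
    | one => rwa [one_mul, inv_one, mul_one]
    | mul_right x _ y hy ih =>
      rcases hy with hy | hy
      · have h1 : y * z = z * y := mem_centralizer_singleton_iff.1 hy
        have h2 : x * y * z * (x * y)⁻¹ = x * z * x⁻¹ := by
          calc x * y * z * (x * y)⁻¹ = x * (y * z) * y⁻¹ * x⁻¹ := by group
            _ = x * (z * y) * y⁻¹ * x⁻¹ := by rw [h1]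
            _ = _ := by group
        rwa [h2]
      · rw [Set.mem_singleton_iff] at hy
        subst hy
        apply hC x ih
        rw [← map_cent (z := z) (g := x) rfl]
        refine ⟨_, hn, ?_⟩
        show x * (y * z * y⁻¹) * x⁻¹ = x * y * z * (x * y)⁻¹
        group
  have h1 : normalClosure ({z} : Set T) ≤ A := by
    rw [normalClosure, closure_le]
    intro x hx
    rw [Group.mem_conjugatesOfSet_iff] at hx
    obtain ⟨a, ha, hx⟩ := hx
    rw [Set.mem_singleton_iff] at ha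
    subst ha
    obtain ⟨g, hg⟩ := isConj_iff.1 hx
    rw [← hg]
    exact hall g
  rcases (normalClosure_normal (s := ({z} : Set T))).eq_bot_or_eq_top with h2 | h2
  · exfalso
    have h3 : z ∈ normalClosure ({z} : Set T) := subset_normalClosure rfl
    rw [h2, mem_bot] at h3
    exact hz1 h3
  · exact top_le_iff.1 (h2 ▸ h1)

/-- for `IF`: if `C(t) ≤ A` whenever `IF A Γ`, `t ∈ A` (`t` fixed), then also for the conjugates of `t` -/
theorem conj_cent {T : Type*} [Group T] {t : T}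
    (H : ∀ (A : Subgroup T) (Γ : Subgroup (MulAut T)), IF A Γ → t ∈ A → centralizer ({t} : Set T) ≤ A)
    {A : Subgroup T} {Γ : Subgroup (MulAut T)} (h : IF A Γ) (g : T) (hg : g * t * g⁻¹ ∈ A) :
    centralizer ({g * t * g⁻¹} : Set T) ≤ A := by
  have h1 := H _ _ (h.map (MulAut.conj g⁻¹)) ⟨g * t * g⁻¹, hg, by
    show g⁻¹ * (g * t * g⁻¹) * g⁻¹⁻¹ = t
    group⟩
  rw [← map_cent (z := t) (g := g) rfl]
  rintro _ ⟨y, hy, rfl⟩
  obtain ⟨a, ha, hay⟩ := h1 hy
  have h2 : (MulAut.conj g).toMonoidHom y = a := by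
    show g * y * g⁻¹ = a
    have h3 : g⁻¹ * a * g⁻¹⁻¹ = y := hay
    rw [← h3]
    group
  rw [h2]
  exact ha

theorem kill_central {T : Type*} [Group T] [Finite T] [IsSimpleGroup T] (hna : ∃ a b : T, a * b ≠ b * a)
    {Q : Subgroup T} {z : T} (hL : Large Q z)
    (hirr : ∀ N : Subgroup T, N ≤ Q → (∀ u : T, u * z = z * u → ∀ y ∈ N, u * y * u⁻¹ ∈ N) →
      (∀ y ∈ N, y = 1 ∨ y = z) ∨ N = Q)
    {L : Type*} [Group L] (π : centralizer ({z} : Set T) →* L) (hπ : Function.Surjective π)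
    (hker : ∀ c : centralizer ({z} : Set T), π c = 1 → (c : T) ∈ Q) {m : ℕ} (hm : MI L m) {b : ℕ}
    (hb : (centralizer ({z} : Set T)).index ≤ (b + 1) ^ 5) (hbm : b < m) (hbQ : 2 * b < Nat.card Q) {n₀ : T}
    (hn : n₀ * z * n₀⁻¹ ∈ Q) (hgen : closure ((centralizer ({z} : Set T) : Set T) ∪ {n₀}) = ⊤)
    {A : Subgroup T} {Γ : Subgroup (MulAut T)} (h : IF A Γ) (hzA : z ∈ A) : False := by
  have H : ∀ (A : Subgroup T) (Γ : Subgroup (MulAut T)), IF A Γ → z ∈ A → centralizer ({z} : Set T) ≤ A := by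
    intro A Γ h hzA
    obtain ⟨-, -, -, -, h1⟩ := H999.IFB.IF.E2' h hna hzA
      (orderOf_eq_prime (by rw [pow_two]; exact hL.z_sq) hL.z_ne)
    have h2 := (h1 _ le_rfl).1
    have h3 : A.relIndex (centralizer ({z} : Set T)) ≤ b := by
      by_contra hcon
      have h4 : (b + 1) ^ 5 ≤ A.relIndex (centralizer ({z} : Set T)) ^ 5 := Nat.pow_le_pow_left (by omega) 5
      omega
    exact LargeC.cent_le hL hirr π hπ hker hm (by omega) (by omega)
  apply h.ne_top
  exact eq_top hL.z_ne (mem_centralizer_singleton_iff.2 (hL.comm_z _ hn)) hgen hzA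
    fun g hg => conj_cent H h g hg

end Cfsg.Agent.H956.IF.Central
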