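import Cfsg.Agent.Co2Type.Quad
import Cfsg.Agent.H867.MinIdx

/-!
# S5719 (helper956): small relative index in the centraliser of a large extraspecial group

`Q` large extraspecial at `z`, `C(z)` irreducible on `Q/⟨z⟩`, `π : C(z) → L` onto with kernel `Q`, `L` without
nontrivial actions on fewer than `m` points.  If `|C(z) : A ∩ C(z)| < m` and `2 |C(z) : A ∩ C(z)| < |Q|` then `C(z) ≤ A`.
-/

set_option autoImplicit false

namespace Cfsg.Agent.H956.IF.LargeC

open Subgroup Cfsg.Agent.Co2Type.Quad Cfsg.Agent.H867.MinIdx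

universe u v

variable {K : Type u} [Group K] [Finite K] {Q : Subgroup K} {z : K}

omit [Finite K] in
theorem mem_mul_z (h : Large Q z) {A : Subgroup K} {x : K} (hx : x * z ∈ A) (hz : z ∈ A) : x ∈ A := by
  have h1 := A.mul_mem hx hz
  rwa [mul_assoc, h.z_sq, mul_one] at h1

theorem cent_aux (h : Large Q z)
    (hirr : ∀ N : Subgroup K, N ≤ Q → (∀ u : K, u * z = z * u → ∀ y ∈ N, u * y * u⁻¹ ∈ N) →
      (∀ y ∈ N, y = 1 ∨ y = z) ∨ N = Q)
    {L : Type v} [Group L] {C : Subgroup K} (hC : C = centralizer ({z} : Set K)) (π : C →* L)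
    (hπ : Function.Surjective π) (hker : ∀ c : C, π c = 1 → (c : K) ∈ Q) {m : ℕ} (hm : MI L m) {A : Subgroup K}
    (hA : A.relIndex C < m) (hQ : 2 * A.relIndex C < Nat.card Q) : C ≤ A := by
  have hmC : ∀ x : K, x ∈ C ↔ x * z = z * x := fun x => by rw [hC, mem_centralizer_singleton_iff]
  have hQC : Q ≤ C := fun x hx => (hmC x).2 (h.comm_z x hx)
  -- `π (A ∩ C) = L`
  have h1 : (A.subgroupOf C).map π = ⊤ := by
    by_contra hcon
    have h2 : ((A.subgroupOf C).map π).index ∣ (A.subgroupOf C).index := Subgroup.index_map_dvd _ hπ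
    have h3 : 0 < (A.subgroupOf C).index := Nat.pos_of_ne_zero (index_ne_zero_of_finite)
    have hfin : Finite L := Finite.of_surjective π hπ
    have h4 := hm.index _ hcon
    have h5 : (A.subgroupOf C).index < m := hA
    have := Nat.le_of_dvd h3 h2
    omega
  have hdec : ∀ c : K, c ∈ C → ∃ a ∈ A, a ∈ C ∧ ∃ q ∈ Q, c = a * q := by
    intro c hc
    have h2 : π ⟨c, hc⟩ ∈ (A.subgroupOf C).map π := by rw [h1]; exact mem_top _
    obtain ⟨a, ha, hac⟩ := h2
    refine ⟨a, ha, a.2, (a : K)⁻¹ * c, ?_, by group⟩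
    have h3 : π (a⁻¹ * ⟨c, hc⟩) = 1 := by rw [map_mul, map_inv, hac, inv_mul_cancel]
    exact hker _ h3
  -- the invariant subgroup
  let N : Subgroup K :=
    { carrier := {x | x ∈ Q ∧ (x ∈ A ∨ x * z ∈ A)}
      one_mem' := ⟨Q.one_mem, Or.inl A.one_mem⟩
      mul_mem' := by
        rintro x y ⟨hx, hx'⟩ ⟨hy, hy'⟩
        refine ⟨Q.mul_mem hx hy, ?_⟩
        have hyz := h.comm_z y hy
        rcases hx' with hx' | hx' <;> rcases hy' with hy' | hy'
        · exact Or.inl (A.mul_mem hx' hy')
        · right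
          rw [mul_assoc]
          exact A.mul_mem hx' hy'
        · right
          rw [mul_assoc, hyz, ← mul_assoc]
          exact A.mul_mem hx' hy'
        · left
          have h2 := A.mul_mem hx' hy'
          have h3 : x * z * (y * z) = x * y := by
            rw [hyz, mul_assoc, ← mul_assoc z z y, h.z_sq, one_mul]
          rwa [h3] at h2
      inv_mem' := by
        rintro x ⟨hx, hx'⟩
        refine ⟨Q.inv_mem hx, ?_⟩
        rcases hx' with hx' | hx'
        · exact Or.inl (A.inv_mem hx')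
        · right
          have h2 := A.inv_mem hx'
          rw [mul_inv_rev, h.z_inv] at h2
          rwa [h.comm_z _ (Q.inv_mem hx)] }
  have hNmem : ∀ x, x ∈ N ↔ x ∈ Q ∧ (x ∈ A ∨ x * z ∈ A) := fun _ => Iff.rfl
  have hNz : ∀ x ∈ N, x * z ∈ N := by
    rintro x ⟨hx, hx'⟩
    refine ⟨Q.mul_mem hx h.z_mem, ?_⟩
    rcases hx' with hx' | hx'
    · right
      rwa [mul_assoc, h.z_sq, mul_one]
    · exact Or.inl hx'
  have hNinv : ∀ u : K, u * z = z * u → ∀ y ∈ N, u * y * u⁻¹ ∈ N := by
    intro u hu y hy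
    obtain ⟨a, ha, haC, q, hq, rfl⟩ := hdec u ((hmC u).2 hu)
    have haz := (hmC a).1 haC
    have h2 : q * y * q⁻¹ ∈ N := by
      rcases h.comm q hq y hy.1 with h3 | h3
      · rwa [h3, mul_inv_cancel_right]
      · have h4 : q * y * q⁻¹ = y * z := by
          rw [h3, mul_assoc y q z, h.comm_z q hq]
          group
        rw [h4]
        exact hNz y hy
    have h3 : a * q * y * (a * q)⁻¹ = a * (q * y * q⁻¹) * a⁻¹ := by group
    rw [h3]
    generalize q * y * q⁻¹ = x at h2
    refine ⟨h.conj_mem a haz x h2.1, ?_⟩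
    rcases h2.2 with h4 | h4
    · exact Or.inl (A.mul_mem (A.mul_mem ha h4) (A.inv_mem ha))
    · right
      have h5 : a * x * a⁻¹ * z = a * (x * z) * a⁻¹ := by
        have h6 : a⁻¹ * z = z * a⁻¹ := by
          rw [inv_mul_eq_iff_eq_mul, ← mul_assoc, haz, mul_inv_cancel_right]
        rw [mul_assoc, h6]
        group
      rw [h5]
      exact A.mul_mem (A.mul_mem ha h4) (A.inv_mem ha)
  have hrel : A.relIndex Q ≤ A.relIndex C := by
    have h2 : A.relIndex C ≠ 0 := index_ne_zero_of_finite
    exact Subgroup.relIndex_le_of_le_right hQC h2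
  have hcard : Nat.card (A ⊓ Q : Subgroup K) * A.relIndex Q = Nat.card Q := by
    have h2 := (A.subgroupOf Q).card_mul_index
    have h3 : Nat.card (A.subgroupOf Q) = Nat.card (A ⊓ Q : Subgroup K) := by
      rw [← Subgroup.inf_subgroupOf_right]
      exact Nat.card_congr (Subgroup.subgroupOfEquivOfLe inf_le_right).toEquiv
    rw [h3] at h2
    exact h2
  rcases hirr N (fun x hx => hx.1) hNinv with h2 | h2
  · exfalso
    have h3 : Nat.card (A ⊓ Q : Subgroup K) ≤ 2 := by
      have h4 : ((A ⊓ Q : Subgroup K) : Set K) ⊆ {1, z} := by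
        intro x hx
        exact h2 x ⟨hx.2, Or.inl hx.1⟩
      calc Nat.card (A ⊓ Q : Subgroup K) = ((A ⊓ Q : Subgroup K) : Set K).ncard := rfl
        _ ≤ ({1, z} : Set K).ncard := Set.ncard_le_ncard h4 (Set.toFinite _)
        _ ≤ 2 := (Set.ncard_insert_le _ _).trans (by rw [Set.ncard_singleton])
    have h4 : Nat.card (A ⊓ Q : Subgroup K) * A.relIndex Q ≤ 2 * A.relIndex C := Nat.mul_le_mul h3 hrel
    omega
  · have hall : ∀ x ∈ Q, x ∈ A ∨ x * z ∈ A := by
      intro x hx
      rw [← h2] at hx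
      exact hx.2
    have hzA : z ∈ A := by
      -- a noncommuting pair
      have h3 : ∃ a ∈ Q, ∃ b ∈ Q, a * b ≠ b * a := by
        by_contra hcon
        push Not at hcon
        have h4 : (Q : Set K) ⊆ {1, z} := by
          intro x hx
          exact h.cent x hx fun y hy => hcon x hx y hy
        have h5 : Nat.card Q ≤ 2 := by
          calc Nat.card Q = (Q : Set K).ncard := rfl
            _ ≤ ({1, z} : Set K).ncard := Set.ncard_le_ncard h4 (Set.toFinite _)
            _ ≤ 2 := (Set.ncard_insert_le _ _).trans (by rw [Set.ncard_singleton])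
        have h6 : A.relIndex C ≠ 0 := index_ne_zero_of_finite
        omega
      obtain ⟨a, ha, b, hb, hab⟩ := h3
      have key : ∀ a ∈ Q, ∀ b ∈ Q, a ∈ A → b ∈ A → a * b ≠ b * a → z ∈ A := by
        intro a ha b hb haA hbA hab
        rcases h.comm a ha b hb with h4 | h4
        · exact absurd h4 hab
        · have h5 : z = (b * a)⁻¹ * (a * b) := by rw [h4]; group
          rw [h5]
          exact A.mul_mem (A.inv_mem (A.mul_mem hbA haA)) (A.mul_mem haA hbA)
      have haz := h.comm_z a ha
      have hbz := h.comm_z b hb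
      rcases hall a ha with h4 | h4 <;> rcases hall b hb with h5 | h5
      · exact key a ha b hb h4 h5 hab
      · refine key a ha (b * z) (Q.mul_mem hb h.z_mem) h4 h5 fun h6 => hab ?_
        have h7 : a * b * z = b * a * z := by
          rw [mul_assoc, h6, mul_assoc, ← haz, mul_assoc]
        exact mul_right_cancel h7
      · refine key (a * z) (Q.mul_mem ha h.z_mem) b hb h4 h5 fun h6 => hab ?_
        have h7 : a * b * z = b * a * z := by
          rw [mul_assoc, hbz, ← mul_assoc, h6, mul_assoc]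
        exact mul_right_cancel h7
      · refine key (a * z) (Q.mul_mem ha h.z_mem) (b * z) (Q.mul_mem hb h.z_mem) h4 h5 fun h6 => hab ?_
        have h7 : a * z * (b * z) = a * b := by
          rw [hbz, mul_assoc, ← mul_assoc z z b, h.z_sq, one_mul]
        have h8 : b * z * (a * z) = b * a := by
          rw [haz, mul_assoc, ← mul_assoc z z a, h.z_sq, one_mul]
        rwa [h7, h8] at h6
    have hQA : Q ≤ A := by
      intro x hx
      rcases hall x hx with h3 | h3
      · exact h3
      · exact mem_mul_z h h3 hzA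
    intro c hc
    obtain ⟨a, ha, -, q, hq, rfl⟩ := hdec c hc
    exact A.mul_mem ha (hQA hq)

theorem cent_le (h : Large Q z)
    (hirr : ∀ N : Subgroup K, N ≤ Q → (∀ u : K, u * z = z * u → ∀ y ∈ N, u * y * u⁻¹ ∈ N) →
      (∀ y ∈ N, y = 1 ∨ y = z) ∨ N = Q)
    {L : Type v} [Group L] (π : centralizer ({z} : Set K) →* L) (hπ : Function.Surjective π)
    (hker : ∀ c : centralizer ({z} : Set K), π c = 1 → (c : K) ∈ Q) {m : ℕ} (hm : MI L m) {A : Subgroup K}
    (hA : A.relIndex (centralizer ({z} : Set K)) < m)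
    (hQ : 2 * A.relIndex (centralizer ({z} : Set K)) < Nat.card Q) : centralizer ({z} : Set K) ≤ A :=
  cent_aux h hirr rfl π hπ hker hm hA hQ

end Cfsg.Agent.H956.IF.LargeC
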